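import Cfsg.Agent.H0.PG2
set_option maxRecDepth 100000
set_option Elab.async false
namespace H0.MM22
open H0 BN 
noncomputable def n0 : Net := (Net.cons (nat_lit 16) (nat_lit 0x20c0) (Net.cons (nat_lit 8) (nat_lit 0x100028) (Net.cons (nat_lit 4) (nat_lit 0xe0204) (Net.cons (nat_lit 2) (nat_lit 0x10) (Net.cons (nat_lit 1) (nat_lit 0x10000501) (Net.cons (nat_lit 4) (nat_lit 0x204) (Net.cons (nat_lit 8) (nat_lit 0x100028) (Net.cons (nat_lit 16) (nat_lit 0x20c0) Net.nil))))))))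
noncomputable def n1 : Net := (Net.cons (nat_lit 16) (nat_lit 0xd641) (Net.cons (nat_lit 8) (nat_lit 0x440010) (Net.cons (nat_lit 4) (nat_lit 0x604090a) (Net.cons (nat_lit 2) (nat_lit 0x30222021) (Net.cons (nat_lit 1) (nat_lit 0x10400004) (Net.cons (nat_lit 2) (nat_lit 0x200000) (Net.cons (nat_lit 4) (nat_lit 0x600080a) (Net.cons (nat_lit 8) (nat_lit 0x40018) (Net.cons (nat_lit 16) (nat_lit 0xd640) Net.nil)))))))))
noncomputable def n2 : Net := (Net.cons (nat_lit 16) (nat_lit 0x44c5) (Net.cons (nat_lit 8) (nat_lit 0x6000b2) (Net.cons (nat_lit 4) (nat_lit 0xa010e) (Net.cons (nat_lit 2) (nat_lit 0x20230232) (Net.cons (nat_lit 1) (nat_lit 0x40010040) (Net.cons (nat_lit 2) (nat_lit 0x20020000) (Net.cons (nat_lit 4) (nat_lit 0x40a0004) (Net.cons (nat_lit 8) (nat_lit 0x2000ba) (Net.cons (nat_lit 16) (nat_lit 0x44c4) Net.nil)))))))))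
noncomputable def n3 : Net := (Net.cons (nat_lit 16) (nat_lit 0x1c00) (Net.cons (nat_lit 8) (nat_lit 0x280080) (Net.cons (nat_lit 4) (nat_lit 0x80800) (Net.cons (nat_lit 2) (nat_lit 0x202200) (Net.cons (nat_lit 1) (nat_lit 0x14114114) (Net.cons (nat_lit 2) (nat_lit 0x202200) (Net.cons (nat_lit 4) (nat_lit 0x80800) (Net.cons (nat_lit 8) (nat_lit 0x280080) (Net.cons (nat_lit 16) (nat_lit 0x1c00) Net.nil)))))))))
noncomputable def n4 : Net := (Net.cons (nat_lit 16) (nat_lit 0x808e) (Net.cons (nat_lit 8) (nat_lit 0x980010) (Net.cons (nat_lit 4) (nat_lit 0x8080c06) (Net.cons (nat_lit 2) (nat_lit 0x20012012) (Net.cons (nat_lit 1) (nat_lit 0x10041104) (Net.cons (nat_lit 2) (nat_lit 0x20022002) (Net.cons (nat_lit 4) (nat_lit 0x80804) (Net.cons (nat_lit 8) (nat_lit 0x980034) (Net.cons (nat_lit 16) (nat_lit 0x8086) Net.nil)))))))))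
noncomputable def n5 : Net := (Net.cons (nat_lit 16) (nat_lit 0x881e) (Net.cons (nat_lit 8) (nat_lit 0x9000bc) (Net.cons (nat_lit 4) (nat_lit 0x8080404) (Net.cons (nat_lit 2) (nat_lit 0x20012012) (Net.cons (nat_lit 1) (nat_lit 0x10011104) (Net.cons (nat_lit 2) (nat_lit 0x20022002) (Net.cons (nat_lit 4) (nat_lit 0x8080806) (Net.cons (nat_lit 8) (nat_lit 0x900098) (Net.cons (nat_lit 16) (nat_lit 0x8816) Net.nil)))))))))
noncomputable def n6 : Net := (Net.cons (nat_lit 16) (nat_lit 0xff80) (Net.cons (nat_lit 8) (nat_lit 0x670000) (Net.cons (nat_lit 4) (nat_lit 0x406000c) (Net.cons (nat_lit 2) (nat_lit 0x20010020) (Net.cons (nat_lit 1) (nat_lit 0x51410050) (Net.cons (nat_lit 2) (nat_lit 0x2000000) (Net.cons (nat_lit 4) (nat_lit 0xc000008) (Net.cons (nat_lit 8) (nat_lit 0x5a0000) (Net.cons (nat_lit 16) (nat_lit 0xff80) Net.nil)))))))))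
noncomputable def n7 : Net := (Net.cons (nat_lit 16) (nat_lit 0xff80) (Net.cons (nat_lit 8) (nat_lit 0xa50000) (Net.cons (nat_lit 4) (nat_lit 0xc0008) (Net.cons (nat_lit 2) (nat_lit 0x3120010) (Net.cons (nat_lit 1) (nat_lit 0x44510050) (Net.cons (nat_lit 2) (nat_lit 0x2000000) (Net.cons (nat_lit 4) (nat_lit 0x604000c) (Net.cons (nat_lit 8) (nat_lit 0x980000) (Net.cons (nat_lit 16) (nat_lit 0xff80) Net.nil)))))))))
noncomputable def n8 : Net := (Net.cons (nat_lit 16) (nat_lit 0xfff8) (Net.cons (nat_lit 8) (nat_lit 0x60000) (Net.cons (nat_lit 4) (nat_lit 0x607000c) (Net.cons (nat_lit 2) (nat_lit 0x33030030) (Net.cons (nat_lit 1) (nat_lit 0x11410000) (Net.cons (nat_lit 2) (nat_lit 0x2200000) (Net.cons (nat_lit 4) (nat_lit 0x4000c) (Net.cons (nat_lit 8) (nat_lit 0x180000) (Net.cons (nat_lit 16) (nat_lit 0xfff8) Net.nil)))))))))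
noncomputable def n9 : Net := (Net.cons (nat_lit 16) (nat_lit 0xfff8) (Net.cons (nat_lit 8) (nat_lit 0xb80000) (Net.cons (nat_lit 4) (nat_lit 0xa0b000c) (Net.cons (nat_lit 2) (nat_lit 0x13320030) (Net.cons (nat_lit 1) (nat_lit 0x44440000) (Net.cons (nat_lit 4) (nat_lit 0x8000c) (Net.cons (nat_lit 16) (nat_lit 0xfff8) Net.nil)))))))
noncomputable def n10 : Net := (Net.cons (nat_lit 16) (nat_lit 0x4210) (Net.cons (nat_lit 8) (nat_lit 0x440070) (Net.cons (nat_lit 4) (nat_lit 0x6020a) (Net.cons (nat_lit 2) (nat_lit 0x2010022) (Net.cons (nat_lit 1) (nat_lit 0x4104510) (Net.cons (nat_lit 2) (nat_lit 0x2000020) (Net.cons (nat_lit 4) (nat_lit 0x6020a) (Net.cons (nat_lit 8) (nat_lit 0x440070) (Net.cons (nat_lit 16) (nat_lit 0x4210) Net.nil)))))))))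
noncomputable def n11 : Net := (Net.cons (nat_lit 16) (nat_lit 0x8) (Net.cons (nat_lit 8) (nat_lit 0xd4) (Net.cons (nat_lit 4) (nat_lit 0x602) (Net.cons (nat_lit 2) (nat_lit 0x30312) (Net.cons (nat_lit 1) (nat_lit 0x51504) (Net.cons (nat_lit 2) (nat_lit 0x2) (Net.cons (nat_lit 4) (nat_lit 0x602) (Net.cons (nat_lit 8) (nat_lit 0x54) (Net.cons (nat_lit 16) (nat_lit 0x8) Net.nil)))))))))
noncomputable def n12 : Net := (Net.cons (nat_lit 16) (nat_lit 0x3538) (Net.cons (nat_lit 8) (nat_lit 0x3000c0) (Net.cons (nat_lit 4) (nat_lit 0x100040c) (Net.cons (nat_lit 2) (nat_lit 0x1020000) (Net.cons (nat_lit 1) (nat_lit 0x110414) (Net.cons (nat_lit 2) (nat_lit 0x220) (Net.cons (nat_lit 4) (nat_lit 0xc0c) (Net.cons (nat_lit 8) (nat_lit 0x100000) (Net.cons (nat_lit 16) (nat_lit 0x3538) Net.nil)))))))))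
noncomputable def n13 : Net := (Net.cons (nat_lit 16) (nat_lit 0x3538) (Net.cons (nat_lit 8) (nat_lit 0x100000) (Net.cons (nat_lit 4) (nat_lit 0x5000c0c) (Net.cons (nat_lit 2) (nat_lit 0x10000220) (Net.cons (nat_lit 1) (nat_lit 0x110414) (Net.cons (nat_lit 2) (nat_lit 0x20000) (Net.cons (nat_lit 4) (nat_lit 0x400040c) (Net.cons (nat_lit 8) (nat_lit 0x3000c0) (Net.cons (nat_lit 16) (nat_lit 0x3538) Net.nil)))))))))
noncomputable def n14 : Net := (Net.cons (nat_lit 8) (nat_lit 0xbc) (Net.cons (nat_lit 4) (nat_lit 0x80806) (Net.cons (nat_lit 2) (nat_lit 0x231010) (Net.cons (nat_lit 1) (nat_lit 0x141144) (Net.cons (nat_lit 2) (nat_lit 0x20202) (Net.cons (nat_lit 4) (nat_lit 0x8080a) (Net.cons (nat_lit 8) (nat_lit 0xdc) Net.nil)))))))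
noncomputable def n15 : Net := (Net.cons (nat_lit 8) (nat_lit 0xdc) (Net.cons (nat_lit 4) (nat_lit 0x8080a) (Net.cons (nat_lit 2) (nat_lit 0x13232) (Net.cons (nat_lit 1) (nat_lit 0x114114) (Net.cons (nat_lit 2) (nat_lit 0x202020) (Net.cons (nat_lit 4) (nat_lit 0x80806) (Net.cons (nat_lit 8) (nat_lit 0xbc) Net.nil)))))))
noncomputable def n16 : Net := (Net.cons (nat_lit 16) (nat_lit 0x1bc) (Net.cons (nat_lit 8) (nat_lit 0x3c000c) (Net.cons (nat_lit 4) (nat_lit 0xf080e03) (Net.cons (nat_lit 2) (nat_lit 0x30023222) (Net.cons (nat_lit 1) (nat_lit 0x11014041) (Net.cons (nat_lit 2) (nat_lit 0x20000020) (Net.cons (nat_lit 4) (nat_lit 0xe080006) (Net.cons (nat_lit 8) (nat_lit 0x3c0064) (Net.cons (nat_lit 16) (nat_lit 0x1a6) Net.nil)))))))))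
def B : List (List ℕ) := [[0, 0], [1, 2], [2, 1], [3, 3], [4, 5], [5, 4], [6, 7], [7, 6], [8, 9], [9, 8], [10, 10], [11, 11], [12, 13], [13, 12], [14, 15], [15, 14], [14, 14, 14], [12, 12, 12], [11, 13, 15], [10, 11, 10, 11], [10, 11, 10, 11], [10, 12, 10, 12, 10, 12], [10, 12, 10, 13, 10, 12, 10, 13], [10, 13, 10, 13, 10, 13], [11, 12, 11, 12, 11, 12], [11, 12, 11, 13, 11, 12, 11, 13], [11, 13, 11, 13, 11, 13], [10, 15, 13, 10, 12, 14], [6, 6, 6, 6, 6], [8, 8, 8, 8], [9, 9, 10], [9, 7, 8, 8, 6, 11], [7, 9, 7, 7, 13], [6, 8, 6, 8, 6, 8, 6, 8, 6, 8], [6, 8, 7, 9, 6, 8, 7, 9, 6, 8, 7, 9], [6, 9, 6, 9, 6, 9, 6, 9, 6, 9], [6, 14, 7, 13, 10], [8, 11, 9, 11, 10], [6, 13, 9, 6, 13, 11], [8, 12, 9, 12, 9, 12, 10], [8, 13, 9, 13, 9, 13, 10], [8, 12, 14, 9, 15, 10, 13, 10], [4, 4, 4, 4], [5, 5, 3, 5, 3, 4, 3, 5, 3, 4, 7], [5, 5, 3, 4, 3, 5, 3, 4, 4, 3, 4, 9], [3, 4, 3, 4, 3, 4, 3, 4, 3, 4, 3, 4,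 3, 4], [3, 4, 3, 5, 3, 4, 3, 5, 3, 4, 3, 5, 3, 4, 3, 5, 3, 4, 3, 5], [3, 5, 3, 5, 3, 5, 3, 5, 3, 5, 3, 5, 3, 5], [3, 13, 10, 14, 6], [4, 7, 4, 15, 6], [4, 3, 5, 15, 10, 12, 7], [5, 14, 8, 5, 14, 8], [4, 4, 11, 5, 5, 11], [5, 12, 8, 5, 6, 10, 13], [4, 13, 11, 9, 5, 13, 8], [4, 11, 5, 7, 5, 8, 7], [4, 4, 13, 5, 5, 10, 14], [1, 1, 1, 1], [1, 0, 2, 3], [2, 0, 2, 0, 2, 0, 1, 0, 1, 5], [0, 1, 0, 1, 0, 1, 0, 1, 0, 1, 0, 1, 0, 1, 0, 1, 0, 1, 0, 1, 0, 1], [0, 1, 0, 2, 0, 1, 0, 2, 0, 1, 0, 2, 0, 1, 0, 2], [0, 2, 0, 2, 0, 2, 0, 2, 0, 2, 0, 2, 0, 2, 0, 2, 0, 2, 0, 2, 0, 2], [2, 14, 1, 10, 3, 6], [0, 12, 0, 3, 10, 12], [0, 10, 0, 15, 9, 13], [0, 5, 2, 11, 5, 5], [0, 8, 0, 15, 13, 9, 7], [2, 10, 1, 15, 8, 5, 15], [1, 14, 3, 2, 8, 5, 3], [2, 13, 1, 7, 14, 4, 3, 11]]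
def inv (x : ℕ) : ℕ := [0, 2, 1, 3, 5, 4, 7, 6, 9, 8, 10, 11, 13, 12, 15, 14].getD x 0
noncomputable def nl : List Net := [n0, n1, n2, n3, n4, n5, n6, n7, n8, n9, n10, n11, n12, n13, n14, n15, n16]
theorem nl_ok : allL (Net.ok (nat_lit 32)) nl = true := by decide +kernel
noncomputable def R : Rep := mkRep (nat_lit 5) (nat_lit 32) nl (by decide +kernel) nl_ok
def defs : List (List ℕ) := [[2, 0]]
theorem R_ge : ∀ x, 16 + defs.length ≤ x → R.p x = 1 := fun _ hx => mkRep_ge hx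
def ngSt : List (List (ℕ × List ℕ) × List ℕ × ℕ × ℕ) := [([(0, [12, 2])], [0], 3, 2), ([(1, [])], [6], 6, 5), ([(2, [])], [7], 1, 5), ([(2, [])], [3], 3, 2), ([(4, [])], [14], 2, 3), ([(5, [])], [15], 1, 3), ([(5, [])], [12], 2, 3), ([(7, [])], [13], 1, 3), ([(5, [])], [4], 3, 4), ([(9, [])], [5], 1, 4), ([(5, [])], [8], 3, 4), ([(11, [])], [9], 1, 4), ([(5, [])], [10], 3, 2), ([(5, [])], [11], 3, 2), ([(8, [])], [1], 5, 4), ([(15, [])], [2], 1, 4)]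
def ngR : List (List ℕ) := ngRels inv ngSt [[16]]
def xR : List (List ℕ) := [wpow [16] 11]
theorem c0 : relsW R 0 R.lg ((B.drop 0).take 71) = true := by decide +kernel
theorem c1 : defsChk R defs 16 = true := by decide +kernel
theorem c2 : Model.fixW R [] [[0], [1]] = true := by decide +kernel
theorem c3 : Model.growW R [[0], [1]] [0, 1, 1, 0, 1, 0, 1, 0, 1, 1, 1] (Nat.pow 2 0) (ival 0 22) = true := by decide +kernel
theorem c4 : Model.fixW R [0] [[3], [4]] = true := by decide +kernel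
theorem c5 : Model.growW R [[3], [4]] [1, 1, 0, 1, 0, 1, 0, 1, 0, 1, 0] (Nat.pow 2 1) (ival 1 21) = true := by decide +kernel
theorem c6 : Model.fixW R [1, 0] [[6], [8]] = true := by decide +kernel
theorem c7 : Model.growW R [[6], [8]] [0, 1, 0, 0, 1, 1, 0, 0] (Nat.pow 2 2) (ival 2 20) = true := by decide +kernel
theorem c8 : Model.fixW R [2, 1, 0] [[10], [11], [12]] = true := by decide +kernel
theorem c9 : Model.growW R [[10], [11], [12]] [0, 1, 2, 0, 1] (Nat.pow 2 3) (ival 3 16) = true := by decide +kernel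
theorem c10 : Model.fixW R [3, 2, 1, 0] [[14]] = true := by decide +kernel
theorem c11 : Model.growW R [[14]] [0, 0] (Nat.pow 2 4) (ival 4 3) = true := by decide +kernel
theorem c12 : Model.growW R [[0], [1]] [0, 1, 1, 0, 1, 0, 1, 0, 1, 1, 1] (Nat.pow 2 0) (ival 0 22) = true := by decide +kernel
theorem c13 : Model.invW R [[0], [1], [2], [3], [4], [5], [6], [7], [8], [9], [10], [11], [12], [13], [14], [15]] 0 22 = true := by decide +kernel
theorem c14 : Model.fixW R [0] [[3], [4]] = true := by decide +kernel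
theorem c15 : Model.growW R [[3], [4]] [1, 1, 0, 1, 0, 1, 0, 1, 0, 1, 0] (Nat.pow 2 1) (ival 1 21) = true := by decide +kernel
theorem c16 : mapsW R [0] (Nat.pow 2 0) (Nat.pow 2 1) = true := by decide +kernel
theorem c17 : Model.growW R [[0], [3], [4]] [0, 2, 2, 0, 1, 2, 0, 2, 0] (Nat.pow 2 0) (ival 0 22) = true := by decide +kernel
theorem c18 : relsW R 0 R.lg ((ngR.drop 0).take 32) = true := by decide +kernel
theorem c19 : relsW R 0 R.lg ((xR.drop 0).take 1) = true := by decide +kernel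
end H0.MM22
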